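import Cfsg.Agent.Lib.J4Six76.Cover

/-!
# A centraliser of an element of order three which is a triple or sixfold cover of M22

`z` is `1` for the triple cover and the central involution for the sixfold cover, so that both are
treated at once.
-/

set_option autoImplicit false
set_option linter.style.haveILetI false

namespace Cfsg.Agent.Lib.J4Six41

open Cfsg Cfsg.Agent.Lib.J4Local Cfsg.Agent.Lib.J4Six76
open scoped Pointwise commutatorElement

/-- `x` has order three and `C(x)` is a perfect cover of M22 with centre `⟨x⟩ × ⟨z⟩`. -/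
structure Cov {G : Type*} [Group G] (x z : G) (π : ↥(Cn x) →* AutM22) : Prop where
  hx : orderOf x = 3
  zz : z * z = 1
  zc : ∀ k ∈ Cn x, Commute k z
  perfect : ⁅Cn x, Cn x⁆ = Cn x
  card : Nat.card ↥(Cn x) = 1330560 * orderOf z
  range : π.range = inn
  ker : ∀ k : ↥(Cn x), π k = 1 ↔ ∃ a ∈ Subgroup.zpowers x, ∃ b ∈ Subgroup.zpowers z, (k : G) = a * b

/-- Either cover gives the configuration. -/
theorem exists_cov {G : Type*} [Group G] [Finite G] (x : G) (hx : orderOf x = 3)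
    (hperf : ⁅(⊤ : Subgroup ↥(Cn x)), (⊤ : Subgroup ↥(Cn x))⁆ = ⊤)
    (hZ : IsCyclic ↥(Subgroup.center ↥(Cn x)))
    (hZc : Nat.card ↥(Subgroup.center ↥(Cn x)) = 3 ∨ Nat.card ↥(Subgroup.center ↥(Cn x)) = 6)
    (e : ↥(Cn x) ⧸ Subgroup.center ↥(Cn x) ≃* ↥Cfsg.Spor.M22) :
    ∃ (z : G) (π : ↥(Cn x) →* AutM22), Cov x z π ∧
      orderOf z * 3 = Nat.card ↥(Subgroup.center ↥(Cn x)) := by
  rcases hZc with h3 | h6
  · set Z := Subgroup.center ↥(Cn x) with hZdef
    set xK : ↥(Cn x) := ⟨x, mem_cn.mpr (Commute.refl x)⟩ with hxK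
    have hxc : xK ∈ Z := Subgroup.mem_center_iff.mpr fun k => Subtype.ext (mem_cn.mp k.2).eq
    have hZeq : Z = Subgroup.zpowers xK := by
      refine (Subgroup.eq_of_le_of_card_ge (Subgroup.zpowers_le.mpr hxc) ?_).symm
      rw [h3, Nat.card_zpowers, Subgroup.orderOf_mk, hx]
    let π : ↥(Cn x) →* AutM22 :=
      (MulAut.conj : ↥Spor.M22 →* AutM22).comp (e.toMonoidHom.comp (QuotientGroup.mk' Z))
    have hπ : ∀ k, π k = 1 ↔ k ∈ Z := by
      intro k
      change MulAut.conj (e (QuotientGroup.mk k)) = 1 ↔ _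
      rw [map_eq_one_iff _ AutAssembly.conj_inj, map_eq_one_iff _ e.injective,
        QuotientGroup.eq_one_iff]
    have hperf' : ⁅Cn x, Cn x⁆ = Cn x := by
      have h1 := congrArg (Subgroup.map (Cn x).subtype) hperf
      rwa [Subgroup.map_commutator, ← MonoidHom.range_eq_map, Subgroup.range_subtype] at h1
    refine ⟨1, π, ⟨hx, one_mul 1, fun k _ => Commute.one_right k, hperf', ?_, ?_, ?_⟩, ?_⟩
    · rw [Subgroup.card_eq_card_quotient_mul_card_subgroup Z, h3, Nat.card_congr e.toEquiv,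
        Nat.card_congr (MonoidHom.ofInjective AutAssembly.conj_inj).toEquiv, orderOf_one]
      change Nat.card ↥inn * 3 = _
      rw [autFacts.card_inn]
    · refine le_antisymm ?_ ?_
      · rintro _ ⟨k, rfl⟩; exact ⟨_, rfl⟩
      · rintro _ ⟨m, rfl⟩
        obtain ⟨k, hk⟩ := QuotientGroup.mk_surjective (e.symm m)
        refine ⟨k, ?_⟩
        change MulAut.conj (e (QuotientGroup.mk k)) = MulAut.conj m
        rw [hk, MulEquiv.apply_symm_apply]
    · intro k
      rw [hπ, hZeq]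
      constructor
      · rintro ⟨i, rfl⟩
        exact ⟨x ^ i, ⟨i, rfl⟩, 1, one_mem _, by simp [hxK]⟩
      · rintro ⟨a, ⟨i, rfl⟩, b, hb, hk⟩
        rw [Subgroup.zpowers_one_eq_bot, Subgroup.mem_bot] at hb
        exact ⟨i, Subtype.ext (by simpa [hxK, hb] using hk.symm)⟩
    · rw [orderOf_one, h3]
  · obtain ⟨z, π, K⟩ := exists_cover x hx hperf hZ h6 e
    exact ⟨z, π, ⟨K.hx, K.zz, K.zc, K.perfect, by rw [K.card, K.hz], K.range, K.ker⟩,
      by rw [K.hz, h6]⟩

namespace Cov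

variable {G : Type*} [Group G] [Finite G] {x z : G} {π : ↥(Cn x) →* AutM22}

theorem ord_z (K : Cov x z π) : orderOf z = 1 ∨ orderOf z = 2 :=
  (Nat.dvd_prime Nat.prime_two).mp (orderOf_dvd_of_pow_eq_one (by rw [pow_two, K.zz]))

theorem x3 (K : Cov x z π) : x ^ 3 = 1 := by rw [← K.hx, pow_orderOf_eq_one]

theorem zpx (K : Cov x z π) {a : G} (ha : a ∈ Subgroup.zpowers x) : a ^ 3 = 1 := by
  obtain ⟨i, rfl⟩ := ha
  change (x ^ i) ^ 3 = 1
  rw [← zpow_natCast, ← zpow_mul, mul_comm, zpow_mul, zpow_natCast, K.x3, one_zpow]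

theorem zpz (K : Cov x z π) {b : G} (hb : b ∈ Subgroup.zpowers z) : b = 1 ∨ b = z := by
  obtain ⟨i, rfl⟩ := hb
  change z ^ i = 1 ∨ z ^ i = z
  have hz2 : z ^ (2 : ℤ) = 1 := by rw [zpow_two, K.zz]
  rcases Int.even_or_odd' i with ⟨j, rfl | rfl⟩
  · exact Or.inl (by rw [zpow_mul, hz2, one_zpow])
  · exact Or.inr (by rw [zpow_add_one, zpow_mul, hz2, one_zpow, one_mul])

theorem zx (K : Cov x z π) : Commute z x := (K.zc x (mem_cn.mpr (Commute.refl x))).symm

theorem ker_comm (K : Cov x z π) {a b : G} (ha : a ∈ Subgroup.zpowers x)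
    (hb : b ∈ Subgroup.zpowers z) : Commute a b ∧ b * b = 1 := by
  obtain ⟨i, rfl⟩ := ha
  rcases K.zpz hb with rfl | rfl
  · exact ⟨Commute.one_right _, one_mul 1⟩
  · exact ⟨(K.zx.symm).zpow_left i, K.zz⟩

/-- Elements of odd order in the kernel are powers of `x`. -/
theorem odd_ker (K : Cov x z π) {k : G} (hk : k ∈ Cn x) (h1 : π ⟨k, hk⟩ = 1) {n : ℕ} (hn : Odd n)
    (hkn : k ^ n = 1) : k ∈ Subgroup.zpowers x := by
  obtain ⟨a, ha, b, hb, e⟩ := (K.ker _).mp h1
  have e' : k = a * b := e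
  obtain ⟨hc, hbb⟩ := K.ker_comm ha hb
  obtain ⟨m, rfl⟩ := hn
  have h6 : k ^ (6 * m + 3) = 1 := by
    rw [show 6 * m + 3 = (2 * m + 1) * 3 by ring, pow_mul, hkn, one_pow]
  rw [e', hc.mul_pow, show 6 * m + 3 = 3 * (2 * m + 1) by ring, pow_mul, K.zpx ha, one_pow, one_mul,
    show 3 * (2 * m + 1) = 2 * (3 * m + 1) + 1 by ring, pow_succ, pow_mul, pow_two, hbb, one_pow,
    one_mul] at h6
  rw [e', h6, mul_one]
  exact ha

theorem zpowers_ne (K : Cov x z π) : x ≠ 1 := fun e => by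
  have := K.hx; rw [e, orderOf_one] at this; omega

/-- A Sylow 3-subgroup of `G` inside `C(x)`, of order 27 with centre `⟨x⟩`. -/
theorem exists_sylow (K : Cov x z π) :
    ∃ P : Subgroup G, P ≤ Cn x ∧ Nat.card P = 3 ^ 3 ∧ x ∈ P ∧
      (∀ c ∈ P, (∀ p ∈ P, Commute p c) → c ∈ Subgroup.zpowers x) ∧ ¬ 81 ∣ Nat.card G := by
  haveI : Fact (Nat.Prime 3) := ⟨Nat.prime_three⟩
  set xK : ↥(Cn x) := ⟨x, mem_cn.mpr (Commute.refl x)⟩ with hxK
  obtain ⟨P', hP', hxP'⟩ := Sylow.exists_subgroup_card_pow_prime_le (G := ↥(Cn x)) 3 (m := 3)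
    (by rw [K.card]; rcases K.ord_z with h | h <;> rw [h] <;> norm_num) (Subgroup.zpowers xK) (n := 1)
    (by rw [Nat.card_zpowers, Subgroup.orderOf_mk, K.hx, pow_one]) (by norm_num)
  have hnab : ¬ IsMulCommutative ↥P' := by
    intro hab
    have hfi : P'.index ≠ 0 := Subgroup.index_ne_zero_of_finite
    open scoped IsMulCommutative in
    have key := MonoidHom.transfer_eq_pow (ϕ := MonoidHom.id ↥P') xK (fun k g _ => by
      have : Commute g (xK ^ k) := (Commute.pow_right (Subtype.ext (mem_cn.mp g.2).eq) k)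
      rw [mul_assoc, ← this.eq, ← mul_assoc, inv_mul_cancel, one_mul])
    open scoped IsMulCommutative in
    have hmem : xK ∈ (MonoidHom.transfer (MonoidHom.id ↥P')).ker := by
      refine Abelianization.commutator_subset_ker _ ?_
      change xK ∈ commutator ↥(Cn x)
      rw [commutator_def]
      have h1 : (⊤ : Subgroup ↥(Cn x)) = ⁅(⊤ : Subgroup ↥(Cn x)), ⊤⁆ := by
        refine Subgroup.map_injective (Cn x).subtype_injective ?_
        rw [Subgroup.map_commutator, ← MonoidHom.range_eq_map, Subgroup.range_subtype, K.perfect]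
      rw [← h1]; trivial
    rw [MonoidHom.mem_ker, key, MonoidHom.id_apply] at hmem
    have hpow : xK ^ P'.index = 1 := congrArg Subtype.val hmem
    have hd := orderOf_dvd_of_pow_eq_one hpow
    rw [Subgroup.orderOf_mk, K.hx] at hd
    have h1 := P'.card_mul_index
    rw [hP', K.card] at h1
    rcases K.ord_z with h | h <;> rw [h] at h1 <;> omega
  set P := P'.map (Cn x).subtype with hP
  have hPc : Nat.card P = 3 ^ 3 := by
    rw [← hP']
    exact (Nat.card_congr (P'.equivMapOfInjective _ (Subgroup.subtype_injective _)).toEquiv).symm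
  have hPK : P ≤ Cn x := Subgroup.map_subtype_le _
  have hxP : x ∈ P := ⟨xK, hxP' (Subgroup.mem_zpowers _), rfl⟩
  have hcen : ∀ c ∈ P, (∀ p ∈ P, Commute p c) → c ∈ Subgroup.zpowers x := by
    have hxin : (⟨x, hxP⟩ : ↥P) ∈ Subgroup.center ↥P :=
      Subgroup.mem_center_iff.mpr fun p => Subtype.ext (mem_cn.mp (hPK p.2)).eq
    have hle : Subgroup.zpowers (⟨x, hxP⟩ : ↥P) ≤ Subgroup.center ↥P := Subgroup.zpowers_le.mpr hxin
    have hzc : Nat.card ↥(Subgroup.zpowers (⟨x, hxP⟩ : ↥P)) = 3 := by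
      rw [Nat.card_zpowers, Subgroup.orderOf_mk, K.hx]
    have heq : Subgroup.center ↥P = Subgroup.zpowers (⟨x, hxP⟩ : ↥P) := by
      refine (Subgroup.eq_of_le_of_card_ge hle ?_).symm
      rw [hzc]
      by_contra hgt
      have hnab' : ¬ ∀ a b : ↥P, a * b = b * a := fun hall => hnab ⟨⟨fun a b => by
        have := hall ⟨_, Subgroup.mem_map_of_mem _ a.2⟩ ⟨_, Subgroup.mem_map_of_mem _ b.2⟩
        exact Subtype.ext (Subtype.ext (by simpa using congrArg Subtype.val this))⟩⟩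
      have hdvd : Nat.card ↥(Subgroup.center ↥P) ∣ 3 ^ 3 := hPc ▸ Subgroup.card_subgroup_dvd_card _
      obtain ⟨n, hn, hn'⟩ := (Nat.dvd_prime_pow Nat.prime_three).mp hdvd
      rw [hn'] at hgt
      have hn2 : n = 2 ∨ n = 3 := by
        rcases (show n = 0 ∨ n = 1 ∨ n = 2 ∨ n = 3 by omega) with rfl | rfl | rfl | rfl <;>
          first | omega | (norm_num at hgt)
      apply hnab'
      have h1 := Subgroup.card_eq_card_quotient_mul_card_subgroup (Subgroup.center ↥P)
      rw [hPc, hn'] at h1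
      haveI : IsCyclic (↥P ⧸ Subgroup.center ↥P) := by
        rcases hn2 with rfl | rfl
        · exact isCyclic_of_prime_card (p := 3) (by omega)
        · haveI : Subsingleton (↥P ⧸ Subgroup.center ↥P) :=
            (Nat.card_eq_one_iff_unique.mp (by omega)).1
          exact inferInstance
      exact fun a b => commutative_of_cyclic_center_quotient (QuotientGroup.mk' (Subgroup.center ↥P))
        (by rw [QuotientGroup.ker_mk']) a b
    intro c hc hall
    have : (⟨c, hc⟩ : ↥P) ∈ Subgroup.center ↥P :=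
      Subgroup.mem_center_iff.mpr fun p => Subtype.ext (hall p p.2).eq
    rw [heq] at this
    obtain ⟨i, hi⟩ := this
    exact ⟨i, by simpa using congrArg Subtype.val hi⟩
  refine ⟨P, hPK, hPc, hxP, hcen, fun h81 => ?_⟩
  obtain ⟨R, hR, hPR⟩ := Sylow.exists_subgroup_card_pow_succ (p := 3) (n := 3) (by simpa using h81) hPc
  have hnormal : (P.subgroupOf R).Normal := by
    refine Subgroup.normal_of_index_eq_minFac_card ?_
    rw [hR, Nat.pow_minFac (by norm_num), Nat.prime_three.minFac_eq]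
    have h1 := Subgroup.card_mul_index (P.subgroupOf R)
    rw [Nat.card_congr (Subgroup.subgroupOfEquivOfLe hPR).toEquiv, hPc, hR] at h1
    omega
  have hRK : R ≤ Cn x := by
    intro r hr
    have hconj : ∀ w ∈ R, w * x * w⁻¹ ∈ Subgroup.zpowers x := by
      intro w hw
      have hcm : ∀ p ∈ P, ∀ v ∈ R, v * p * v⁻¹ ∈ P := fun p hp v hv =>
        hnormal.conj_mem ⟨p, hPR hp⟩ hp ⟨v, hv⟩
      refine hcen _ (hcm x hxP w hw) fun p hp => ?_
      have h1 : Commute (w⁻¹ * p * w) x := mem_cn.mp (hPK (by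
        simpa using hcm p hp w⁻¹ (inv_mem hw)))
      have h2 := h1.map (MulAut.conj w)
      simpa [mul_assoc] using h2
    rw [mem_cn']
    obtain ⟨i, hi⟩ := Subgroup.mem_zpowers_iff.mp (hconj r hr)
    have h81' : r ^ 81 = 1 := by
      have := pow_card_eq_one' (x := (⟨r, hr⟩ : R))
      rw [hR] at this
      exact congrArg Subtype.val this
    rw [← hi, ← zpow_mod_orderOf, K.hx]
    rw [← zpow_mod_orderOf, K.hx] at hi
    rcases (show i % ((3 : ℕ) : ℤ) = 0 ∨ i % ((3 : ℕ) : ℤ) = 1 ∨ i % ((3 : ℕ) : ℤ) = 2 by omega)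
      with e | e | e <;> rw [e] at hi ⊢
    · exfalso
      rw [zpow_zero] at hi
      exact K.zpowers_ne (conj_eq_one_iff.mp hi.symm)
    · exact zpow_one x
    · exfalso
      have hinv : r * x * r⁻¹ = x⁻¹ := by
        rw [← hi, show (2 : ℤ) = ((2 : ℕ) : ℤ) from rfl, zpow_natCast]
        exact eq_inv_of_mul_eq_one_left (by rw [← pow_succ, K.x3])
      have h2 : Commute (r * r) x := by
        rw [commute_iff_eq, ← mul_inv_eq_iff_eq_mul,
          show r * r * x * (r * r)⁻¹ = r * (r * x * r⁻¹) * r⁻¹ by group, hinv,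
          show r * x⁻¹ * r⁻¹ = (r * x * r⁻¹)⁻¹ by group, hinv, inv_inv]
      have h3 : Commute r x := by
        have e2 : r = ((r * r) ^ 40)⁻¹ := by
          rw [eq_inv_iff_mul_eq_one, ← pow_two, ← pow_mul, ← pow_succ']
          exact h81'
        rw [e2]; exact (h2.pow_left 40).inv_left
      rw [h3.eq, mul_inv_cancel_right] at hinv
      have h4 : x ^ 2 = 1 := by rw [pow_two]; nth_rewrite 2 [hinv]; exact mul_inv_cancel x
      have := orderOf_dvd_of_pow_eq_one h4
      rw [K.hx] at this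
      omega
  have := Subgroup.card_dvd_of_le hRK
  rw [hR, K.card] at this
  rcases K.ord_z with h | h <;> rw [h] at this <;> norm_num at this

/-- Elements of order dividing 27 outside the kernel are fused to `y`, up to powers of `x`. -/
theorem fuse (K : Cov x z π) {y a : G} (hy : y ∈ Cn x) (ha : a ∈ Cn x) (hy27 : y ^ 27 = 1)
    (ha27 : a ^ 27 = 1) (hy3 : orderOf (π ⟨y, hy⟩) = 3) (ha3 : orderOf (π ⟨a, ha⟩) = 3) :
    ∃ k ∈ Cn x, ∃ w ∈ Subgroup.zpowers x, k * a * k⁻¹ = y * w := by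
  have hin : ∀ b, π b ∈ inn := fun b => K.range ▸ ⟨b, rfl⟩
  obtain ⟨c, hc, hcm⟩ := autFacts.conj_three _ (hin _) _ (hin _) ha3 hy3
  obtain ⟨k, rfl⟩ := (K.range.symm ▸ hc : c ∈ π.range)
  have hw1 : π (⟨y, hy⟩⁻¹ * (k * ⟨a, ha⟩ * k⁻¹)) = 1 := by
    rw [map_mul, map_inv, map_mul, map_mul, map_inv, hcm, inv_mul_cancel]
  obtain ⟨w, hw, b, hb, e⟩ := (K.ker _).mp hw1
  have e' : y⁻¹ * ((k : G) * a * (k : G)⁻¹) = w * b := e
  obtain ⟨hwb, hbb⟩ := K.ker_comm hw hb
  have hd : (k : G) * a * (k : G)⁻¹ = (y * w) * b := by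
    rw [mul_assoc y w b, ← e', mul_inv_cancel_left]
  have hyw : Commute y w := by
    obtain ⟨i, rfl⟩ := hw
    exact (mem_cn.mp hy).zpow_right i
  have hyb : Commute (y * w) b := by
    rcases K.zpz hb with rfl | rfl
    · exact Commute.one_right _
    · refine (K.zc y hy).mul_left ?_
      obtain ⟨i, rfl⟩ := hw
      exact K.zx.symm.zpow_left i
  refine ⟨k, k.2, w, hw, ?_⟩
  have h27 : ((k : G) * a * (k : G)⁻¹) ^ 27 = 1 := by
    rw [conj_pow, ha27, mul_one, mul_inv_cancel]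
  rw [hd, hyb.mul_pow, hyw.mul_pow, hy27, show (27 : ℕ) = 3 * 9 from rfl, pow_mul, K.zpx hw, one_pow,
    one_mul, one_mul, show (3 : ℕ) * 9 = 2 * 13 + 1 from rfl, pow_succ, pow_mul, pow_two, hbb, one_pow,
    one_mul] at h27
  rw [hd, h27, mul_one]

/-- The central elements of square one. -/
theorem central (K : Cov x z π) {w : G} (hw : w ∈ Cn x) (hc : ∀ k ∈ Cn x, Commute k w)
    (hww : w * w = 1) : w = 1 ∨ w = z := by
  have h1 : π ⟨w, hw⟩ = 1 := by
    obtain ⟨m, hm⟩ := (K.range ▸ ⟨_, rfl⟩ : π ⟨w, hw⟩ ∈ inn)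
    rw [← hm]
    have hmc : m ∈ Subgroup.center ↥Spor.M22 := by
      refine Subgroup.mem_center_iff.mpr fun a => AutAssembly.conj_inj ?_
      obtain ⟨k, hk⟩ := (K.range.symm ▸ ⟨a, rfl⟩ : MulAut.conj a ∈ π.range)
      rw [map_mul, map_mul, hm, ← hk, ← map_mul, ← map_mul]
      exact congrArg π (Subtype.ext (hc k k.2).eq)
    rw [AutModel.center_eq_bot, Subgroup.mem_bot] at hmc
    rw [hmc, map_one]
  obtain ⟨a, ha, b, hb, e⟩ := (K.ker _).mp h1
  have e' : w = a * b := e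
  obtain ⟨hab, hbb⟩ := K.ker_comm ha hb
  rw [e', hab.symm.mul_mul_mul_comm, hbb, mul_one] at hww
  have ha1 : a = 1 := by
    have h3 := K.zpx ha
    rwa [pow_succ, pow_two, hww, one_mul] at h3
  rw [e', ha1, one_mul]
  exact K.zpz hb

end Cov

end Cfsg.Agent.Lib.J4Six41
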