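import Cfsg.Agent.Lib.J4Six76.Basic
import Cfsg.Agent.Lib.J4Local.Facts

/-!
# What is used about hexads and 2-subgroups of Aut M22
-/

set_option autoImplicit false

namespace Cfsg.Agent.Lib.J4Six41

open Cfsg Cfsg.Agent.Lib.J4Local Cfsg.Agent.Lib.J4Six76

/-- Conjugation of a subgroup. -/
abbrev cjS {G : Type*} [Group G] (c : G) (S : Subgroup G) : Subgroup G :=
  S.map (MulAut.conj c).toMonoidHom

/-- `A` is the hexad group attached to the element `a` of order three: the one containing the four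
group centralised by `a`. -/
structure Hex (a : AutM22) (A : Subgroup AutM22) : Prop where
  le : A ≤ inn
  exp : IsExp2 A
  card : Nat.card ↥A = 16
  self : ∀ c : AutM22, (∀ v ∈ A, Commute c v) → c ∈ A
  inv_cent : ∀ v ∈ A, v ≠ 1 → inn ⊓ Cn v ≤ Subgroup.normalizer (A : Set AutM22)
  norm : a ∈ Subgroup.normalizer (A : Set AutM22)
  fix_card : Nat.card ↥(A ⊓ Cn a) = 4
  fix_all : ∀ c ∈ inn, Commute c a → c * c = 1 → c ∈ A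
  fix_cent : ∀ c ∈ inn, (∀ v ∈ A ⊓ Cn a, Commute c v) → ∃ w ∈ A, ∃ i : ℕ, c = w * a ^ i
  series : ∀ c : AutM22, (∀ v ∈ A ⊓ Cn a, Commute c v) →
    (∀ v ∈ A, c * v * c⁻¹ * v⁻¹ ∈ A ⊓ Cn a) → c ∈ A
  mate : ∃ A' : Subgroup AutM22, ∃ σ ∈ inn, cjS σ A = A' ∧ cjS σ A' = A ∧ A ⊓ A' = ⊥ ∧
    a ∈ Subgroup.normalizer (A' : Set AutM22) ∧
    inn ≤ Subgroup.closure {c : AutM22 | c ∈ inn ∧ ((cjS c A = A ∧ cjS c A' = A') ∨ c = σ ∨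
      (cjS c A = A ∧ a ∈ Subgroup.normalizer (cjS c A' : Set AutM22)))}
  syl : ∃ P : Subgroup AutM22, Nat.card ↥P = 256 ∧ A ≤ P ∧
    P ≤ Subgroup.normalizer (A : Set AutM22) ∧ ∃ v ∈ A, Nat.card ↥(P ⊓ Cn v) = 32

/-- The facts about Aut M22 which are used. -/
structure HexFacts : Prop where
  exists_hex : ∀ a : AutM22, orderOf a = 3 → ∃ A, Hex a A
  cent_core : ∀ v ∈ inn, orderOf v = 2 → ∃ O : Subgroup AutM22, O ≤ inn ⊓ Cn v ∧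
    Nat.card ↥O = 64 ∧ inn ⊓ Cn v ≤ Subgroup.normalizer (O : Set AutM22) ∧
    ∀ R : Subgroup AutM22, R ≤ inn ⊓ Cn v → IsPGroup 2 ↥R →
      (∃ a ∈ inn ⊓ Cn v, orderOf a = 3 ∧ a ∈ Subgroup.normalizer (R : Set AutM22)) → R ≤ O
  uniq : ∀ P S S' : Subgroup AutM22, Nat.card ↥P = 256 →
    (S ≤ P ∧ IsExp2 S ∧ Nat.card ↥S = 16 ∧ P ≤ Subgroup.normalizer (S : Set AutM22) ∧
      (∀ c ∈ P, (∀ v ∈ S, Commute c v) → c ∈ S) ∧ ∃ v ∈ S, Nat.card ↥(P ⊓ Cn v) = 32) →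
    (S' ≤ P ∧ IsExp2 S' ∧ Nat.card ↥S' = 16 ∧ P ≤ Subgroup.normalizer (S' : Set AutM22) ∧
      (∀ c ∈ P, (∀ v ∈ S', Commute c v) → c ∈ S') ∧ ∃ v ∈ S', Nat.card ↥(P ⊓ Cn v) = 32) →
    S = S'
  squares : ∀ P M : Subgroup AutM22, Nat.card ↥P = 256 → M ≤ P → Nat.card ↥M = 128 →
    ∀ c ∈ P, (∀ p ∈ P, Commute c p) → c ∈ Subgroup.closure ((fun m => m * m) '' (M : Set AutM22))
  outer : ∀ P : Subgroup AutM22, Nat.card ↥P = 256 → ∃ u ∈ P, u ∉ inn ∧ u * u = 1 ∧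
    Nat.card ↥(P ⊓ Cn u) = 128 ∧
    u ∉ Subgroup.closure ((fun m => m * m) '' ((P ⊓ Cn u : Subgroup AutM22) : Set AutM22))
  no_free : ∀ K : Subgroup AutM22, K ≤ inn → ¬ 3 ∣ Nat.card ↥K → Nat.card ↥K < 325

end Cfsg.Agent.Lib.J4Six41
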