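import Cfsg.Agent.Lib.J4Six41.Fused
import Cfsg.Agent.Lib.J4Six41.Hex

/-!
# The configuration around `⟨x, y⟩`
-/

set_option autoImplicit false
set_option linter.style.haveILetI false

namespace Cfsg.Agent.Lib.J4Six41

open Cfsg Cfsg.Agent.Lib.J4Local Cfsg.Agent.Lib.J4Six76
open scoped commutatorElement

/-- `x` and `y` commute and are exchanged by `g`; `t` corresponds to `z`; `s` moves `y` to `y * x`
and `u` inverts `x`, fixing `y` and `z`. -/
structure Frame {G : Type*} [Group G] (x y z t g s u : G) (π : ↥(Cn x) →* AutM22) : Prop where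
  cov : Cov x z π
  yK : y ∈ Cn x
  y_out : y ∉ Subgroup.zpowers x
  gx : g * x * g⁻¹ = y
  gy : g * y * g⁻¹ = x
  gz : g * z * g⁻¹ = t
  sx : Commute s x
  sy : s * y * s⁻¹ = y * x
  ux : u * x * u⁻¹ = x⁻¹
  uy : Commute u y
  uz : Commute u z
  cls : ∀ a : G, Commute a x → a ^ 3 = 1 →
    a ∈ Subgroup.zpowers x ∨ ∃ k : G, Commute k x ∧ k * a * k⁻¹ = y
  no81 : ¬ 81 ∣ Nat.card G

/-- Failure of 3-normality gives the configuration. -/
theorem exists_frame {G : Type*} [Group G] [Finite G] {x z : G} {π : ↥(Cn x) →* AutM22}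
    (K : Cov x z π) (S : Sylow 3 G) (g : G)
    (hng : ((Subgroup.center ↥(S : Subgroup G)).map (S : Subgroup G).subtype).map
      (MulAut.conj g).toMonoidHom ≤ (S : Subgroup G))
    (hne : ((Subgroup.center ↥(S : Subgroup G)).map (S : Subgroup G).subtype).map
      (MulAut.conj g).toMonoidHom ≠ ((Subgroup.center ↥(S : Subgroup G)).map (S : Subgroup G).subtype)) :
    ∃ y t g' s u : G, Frame x y z t g' s u π := by
  obtain ⟨P, hPK, hPc, hxP, hcen, h81⟩ := K.exists_sylow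
  obtain ⟨d, hdP, hdx⟩ := exists_fused K hPc hxP hPK hcen h81 S g hng hne
  obtain ⟨u, s, hux, huy, huz, hsx, hsy, hcls⟩ := exists_elements K hPc hPK hxP hcen hdP hdx
  have hyx : Commute (d * x * d⁻¹) x := mem_cn.mp (hPK hdP)
  have hx' : Commute (d⁻¹ * x * d) x := by
    have := hyx.symm.map (MulAut.conj d⁻¹)
    simpa [mul_assoc] using this
  have hx'3 : (d⁻¹ * x * d) ^ 3 = 1 := by
    have := map_pow (MulAut.conj d⁻¹) x 3
    rw [K.x3, map_one] at this
    simpa [mul_assoc] using this.symm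
  rcases hcls _ hx' hx'3 with h | ⟨k, hk, hk'⟩
  · exfalso
    apply hdx
    have h' : Subgroup.zpowers (d⁻¹ * x * d) = Subgroup.zpowers x := by
      refine Subgroup.eq_of_le_of_card_ge (Subgroup.zpowers_le.mpr h) (le_of_eq ?_)
      rw [Nat.card_zpowers, Nat.card_zpowers]
      exact (MulEquiv.orderOf_eq (MulAut.conj d⁻¹) x).symm.trans (by simp [mul_assoc])
    obtain ⟨i, hi⟩ := (h' ▸ Subgroup.mem_zpowers x : x ∈ Subgroup.zpowers (d⁻¹ * x * d))
    refine ⟨i, ?_⟩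
    have h2 := congrArg (fun a => d * a * d⁻¹) hi
    have h3 : d * (d⁻¹ * x * d) ^ i * d⁻¹ = x ^ i := by
      rw [← conj_zpow]; group
    simp only [h3] at h2
    exact h2
  · refine ⟨d * x * d⁻¹, d * k⁻¹ * z * (d * k⁻¹)⁻¹, d * k⁻¹, s, u,
      ⟨K, hPK hdP, hdx, ?_, ?_, rfl, hsx, hsy, hux, huy, huz, hcls, h81⟩⟩
    · rw [show d * k⁻¹ * x * (d * k⁻¹)⁻¹ = d * (k⁻¹ * x * k) * d⁻¹ by group,
        show k⁻¹ * x * k = x by rw [mul_assoc, ← hk.eq, ← mul_assoc, inv_mul_cancel, one_mul]]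
    · calc d * k⁻¹ * (d * x * d⁻¹) * (d * k⁻¹)⁻¹
          = d * (k⁻¹ * (d * x * d⁻¹) * k) * d⁻¹ := by group
        _ = d * (d⁻¹ * x * d) * d⁻¹ := by
          rw [show k⁻¹ * (d * x * d⁻¹) * k = d⁻¹ * x * d by rw [← hk']; group]
        _ = x := by group

end Cfsg.Agent.Lib.J4Six41
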