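import Cfsg.Agent.Lib.J4Six41.Cov

/-!
# A conjugate of `x` inside the Sylow 3-subgroup of its centraliser
-/

set_option autoImplicit false
set_option linter.style.haveILetI false

namespace Cfsg.Agent.Lib.J4Six41

open Cfsg Cfsg.Agent.Lib.J4Local Cfsg.Agent.Lib.J4Six76
open scoped Pointwise commutatorElement

variable {G : Type*} [Group G] [Finite G]

/-- The failure of 3-normality gives a conjugate `y` of `x` in `P` outside `⟨x⟩`. -/
theorem exists_fused {x z : G} {π : ↥(Cn x) →* AutM22} (K : Cov x z π) {P : Subgroup G}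
    (hPc : Nat.card P = 3 ^ 3) (hxP : x ∈ P) (hPK : P ≤ Cn x)
    (hcen : ∀ c ∈ P, (∀ p ∈ P, Commute p c) → c ∈ Subgroup.zpowers x) (h81 : ¬ 81 ∣ Nat.card G)
    (S : Sylow 3 G) (g : G)
    (hng : ((Subgroup.center ↥(S : Subgroup G)).map (S : Subgroup G).subtype).map
      (MulAut.conj g).toMonoidHom ≤ (S : Subgroup G))
    (hne : ((Subgroup.center ↥(S : Subgroup G)).map (S : Subgroup G).subtype).map
      (MulAut.conj g).toMonoidHom ≠ ((Subgroup.center ↥(S : Subgroup G)).map (S : Subgroup G).subtype)) :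
    ∃ d : G, d * x * d⁻¹ ∈ P ∧ d * x * d⁻¹ ∉ Subgroup.zpowers x := by
  haveI : Fact (Nat.Prime 3) := ⟨Nat.prime_three⟩
  have hidx : ¬ 3 ∣ P.index := by
    intro ⟨k, hk⟩
    apply h81
    rw [← P.card_mul_index, hPc, hk]
    exact ⟨k, by ring⟩
  let SP := (IsPGroup.of_card hPc).toSylow hidx
  obtain ⟨h, hh⟩ := MulAction.exists_smul_eq G SP S
  have hS : (S : Subgroup G) = MulAut.conj h • P := by
    have : (S : Subgroup G) = MulAut.conj h • (SP : Subgroup G) := by rw [← hh]; rfl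
    exact this
  have hmem : ∀ a, a ∈ (S : Subgroup G) ↔ h⁻¹ * a * h ∈ P := fun a => by
    rw [hS, Coprime.mem_conj_smul]
  set Z := (Subgroup.center ↥(S : Subgroup G)).map (S : Subgroup G).subtype with hZ
  have hZeq : Z = Subgroup.zpowers (h * x * h⁻¹) := by
    refine le_antisymm ?_ ?_
    · rintro _ ⟨c, hc, rfl⟩
      have h1 : h⁻¹ * (c : G) * h ∈ Subgroup.zpowers x := by
        refine hcen _ ((hmem c).mp c.2) fun p hp => ?_
        have hpS : h * p * h⁻¹ ∈ (S : Subgroup G) := (hmem _).mpr (by simpa [mul_assoc] using hp)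
        have h2 : Commute (h * p * h⁻¹) (c : G) :=
          congrArg Subtype.val (Subgroup.mem_center_iff.mp hc ⟨_, hpS⟩)
        simpa [mul_assoc] using h2.map (MulAut.conj h⁻¹)
      obtain ⟨i, hi⟩ := h1
      refine ⟨i, ?_⟩
      change (h * x * h⁻¹) ^ i = (c : G)
      rw [conj_zpow, show x ^ i = h⁻¹ * (c : G) * h from hi]
      group
    · rw [Subgroup.zpowers_le]
      have hxS : h * x * h⁻¹ ∈ (S : Subgroup G) := (hmem _).mpr (by simpa [mul_assoc] using hxP)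
      refine ⟨⟨_, hxS⟩, Subgroup.mem_center_iff.mpr fun p => Subtype.ext ?_, rfl⟩
      have h2 := (mem_cn.mp (hPK ((hmem p).mp p.2))).map (MulAut.conj h)
      exact (by simpa [mul_assoc] using h2 : Commute (p : G) (h * x * h⁻¹)).eq
  rw [hZeq, MonoidHom.map_zpowers] at hng hne
  refine ⟨h⁻¹ * g * h, ?_, fun hy => ?_⟩
  · have h1 := (hmem _).mp (hng (Subgroup.mem_zpowers _))
    simpa [mul_assoc] using h1
  · apply hne
    refine Subgroup.eq_of_le_of_card_ge ?_ ?_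
    · rw [Subgroup.zpowers_le]
      obtain ⟨i, hi⟩ := hy
      refine ⟨i, ?_⟩
      change (h * x * h⁻¹) ^ i = g * (h * x * h⁻¹) * g⁻¹
      rw [conj_zpow, show x ^ i = h⁻¹ * g * h * x * (h⁻¹ * g * h)⁻¹ from hi]
      group
    · rw [Nat.card_zpowers, Nat.card_zpowers]
      exact le_of_eq (MulEquiv.orderOf_eq (MulAut.conj g) (h * x * h⁻¹)).symm

/-- The part of the configuration living in `G`. -/
theorem exists_elements {x z : G} {π : ↥(Cn x) →* AutM22} (K : Cov x z π) {P : Subgroup G}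
    (hPc : Nat.card P = 3 ^ 3) (hPK : P ≤ Cn x) (hxP : x ∈ P)
    (hcen : ∀ c ∈ P, (∀ p ∈ P, Commute p c) → c ∈ Subgroup.zpowers x) {d : G}
    (hdP : d * x * d⁻¹ ∈ P) (hdx : d * x * d⁻¹ ∉ Subgroup.zpowers x) :
    ∃ u s : G, u * x * u⁻¹ = x⁻¹ ∧ Commute u (d * x * d⁻¹) ∧ Commute u z ∧ Commute s x ∧
      s * (d * x * d⁻¹) * s⁻¹ = d * x * d⁻¹ * x ∧
      (∀ a : G, Commute a x → a ^ 3 = 1 →
        a ∈ Subgroup.zpowers x ∨ ∃ k : G, Commute k x ∧ k * a * k⁻¹ = d * x * d⁻¹) := by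
  haveI : Fact (Nat.Prime 3) := ⟨Nat.prime_three⟩
  set y := d * x * d⁻¹ with hy
  clear_value y
  have hy3 : y ^ 3 = 1 := by rw [hy, conj_pow, K.x3, mul_one, mul_inv_cancel]
  have hord : ∀ a (ha : a ∈ Cn x), a ^ 3 = 1 → a ∉ Subgroup.zpowers x → orderOf (π ⟨a, ha⟩) = 3 := by
    intro a ha ha3 hax
    refine orderOf_eq_prime ?_ fun h1 => hax (K.odd_ker ha h1 ⟨1, by norm_num⟩ ha3)
    rw [← map_pow, show (⟨a, ha⟩ : ↥(Cn x)) ^ 3 = 1 from Subtype.ext (by simpa using ha3), map_one]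
  have hyK : y ∈ Cn x := hPK hdP
  -- the element moving `y` to `y * x`
  obtain ⟨p, hp, hpy⟩ : ∃ p ∈ P, ¬ Commute p y := by
    by_contra hall
    push_neg at hall
    exact hdx (hcen y hdP hall)
  set w := p * y * p⁻¹ * y⁻¹ with hw
  let f : ↥P →* AutM22 := π.comp (Subgroup.inclusion hPK)
  have hodd : ∀ q ∈ P, q ^ 27 = 1 := fun q hq => by
    have := pow_card_eq_one' (x := (⟨q, hq⟩ : P))
    rw [hPc] at this
    exact congrArg Subtype.val this
  have hker : f.ker = (Subgroup.zpowers x).subgroupOf P := by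
    ext q
    rw [MonoidHom.mem_ker, Subgroup.mem_subgroupOf]
    constructor
    · intro h1
      exact K.odd_ker (hPK q.2) h1 ⟨13, by norm_num⟩ (hodd q q.2)
    · intro hq
      exact (K.ker _).mpr ⟨(q : G), hq, 1, one_mem _, (mul_one _).symm⟩
  have hrange : Nat.card f.range = 3 ^ 2 := by
    have h1 := Subgroup.card_mul_index f.ker
    rw [Subgroup.index_ker, hker, hPc, Nat.card_congr (Subgroup.subgroupOfEquivOfLe
      (Subgroup.zpowers_le.mpr hxP)).toEquiv, Nat.card_zpowers, K.hx] at h1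
    omega
  have hwx : w ∈ Subgroup.zpowers x := by
    have h1 : f (⟨p, hp⟩ * ⟨y, hdP⟩ * (⟨p, hp⟩ : ↥P)⁻¹ * (⟨y, hdP⟩ : ↥P)⁻¹) = 1 := by
      have h2 := IsPGroup.commutative_of_card_eq_prime_sq hrange
        ⟨f ⟨p, hp⟩, _, rfl⟩ ⟨f ⟨y, hdP⟩, _, rfl⟩
      have h3 : f ⟨p, hp⟩ * f ⟨y, hdP⟩ = f ⟨y, hdP⟩ * f ⟨p, hp⟩ := congrArg Subtype.val h2
      rw [map_mul, map_mul, map_mul, map_inv, map_inv, h3, mul_inv_cancel_right, mul_inv_cancel]
    have h4 : (⟨p, hp⟩ * ⟨y, hdP⟩ * (⟨p, hp⟩ : ↥P)⁻¹ * (⟨y, hdP⟩ : ↥P)⁻¹ : ↥P) ∈ f.ker := h1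
    rw [hker, Subgroup.mem_subgroupOf] at h4
    exact h4
  have hw1 : w ≠ 1 := fun e => hpy (mul_inv_eq_iff_eq_mul.mp (mul_inv_eq_one.mp e))
  have hyx : Commute y x := mem_cn.mp hyK
  obtain ⟨s, hs, hsy⟩ : ∃ s : G, Commute s x ∧ s * y * s⁻¹ = y * x := by
    have hpx : Commute p x := mem_cn.mp (hPK hp)
    obtain ⟨i, hi⟩ := Subgroup.mem_zpowers_iff.mp hwx
    rw [← zpow_mod_orderOf, K.hx] at hi
    rcases (show i % ((3 : ℕ) : ℤ) = 0 ∨ i % ((3 : ℕ) : ℤ) = 1 ∨ i % ((3 : ℕ) : ℤ) = 2 by omega)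
      with e | e | e <;> rw [e] at hi
    · rw [zpow_zero] at hi; exact absurd hi.symm hw1
    · rw [zpow_one] at hi
      refine ⟨p, hpx, ?_⟩
      rw [hyx.eq, hi, hw, inv_mul_cancel_right]
    · refine ⟨p⁻¹, hpx.inv_left, ?_⟩
      rw [inv_inv]
      have hx2 : w = x⁻¹ := by
        rw [← hi, show (2 : ℤ) = ((2 : ℕ) : ℤ) from rfl, zpow_natCast]
        exact eq_inv_of_mul_eq_one_left (by rw [← pow_succ, K.x3])
      have e1 : p * y * p⁻¹ = x⁻¹ * y := by rw [← hx2, hw, inv_mul_cancel_right]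
      have e2 : y = x⁻¹ * (p⁻¹ * y * p) := by
        calc y = p⁻¹ * (p * y * p⁻¹) * p := by group
          _ = p⁻¹ * x⁻¹ * y * p := by rw [e1]; group
          _ = x⁻¹ * p⁻¹ * y * p := by rw [hpx.inv_inv.eq]
          _ = x⁻¹ * (p⁻¹ * y * p) := by group
      rw [hyx.eq]
      exact (inv_mul_eq_iff_eq_mul.mp e2.symm)
  -- all elements of order three are fused
  have hcls : ∀ a : G, Commute a x → a ^ 3 = 1 →
      a ∈ Subgroup.zpowers x ∨ ∃ k : G, Commute k x ∧ k * a * k⁻¹ = y := by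
    intro a hax ha3
    by_cases haz : a ∈ Subgroup.zpowers x
    · exact Or.inl haz
    right
    have haK : a ∈ Cn x := mem_cn.mpr hax
    obtain ⟨k, hk, v, hv, e⟩ := K.fuse hyK haK (hodd y hdP)
      (by rw [show (27 : ℕ) = 3 * 9 from rfl, pow_mul, ha3, one_pow]) (hord y hyK hy3 hdx)
      (hord a haK ha3 haz)
    obtain ⟨i, hi⟩ := Subgroup.mem_zpowers_iff.mp hv
    rw [← zpow_mod_orderOf, K.hx] at hi
    have hk' : Commute k x := mem_cn.mp hk
    rcases (show i % ((3 : ℕ) : ℤ) = 0 ∨ i % ((3 : ℕ) : ℤ) = 1 ∨ i % ((3 : ℕ) : ℤ) = 2 by omega)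
      with e1 | e1 | e1 <;> rw [e1] at hi
    · rw [zpow_zero] at hi
      exact ⟨k, hk', by rw [e, ← hi, mul_one]⟩
    · rw [zpow_one] at hi
      refine ⟨s⁻¹ * k, hs.inv_left.mul_left hk', ?_⟩
      rw [show s⁻¹ * k * a * (s⁻¹ * k)⁻¹ = s⁻¹ * (k * a * k⁻¹) * s by group, e, ← hi, ← hsy]
      group
    · have hv2 : v = x⁻¹ := by
        rw [← hi, show (2 : ℤ) = ((2 : ℕ) : ℤ) from rfl, zpow_natCast]
        exact eq_inv_of_mul_eq_one_left (by rw [← pow_succ, K.x3])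
      refine ⟨s * k, hs.mul_left hk', ?_⟩
      rw [show s * k * a * (s * k)⁻¹ = s * (k * a * k⁻¹) * s⁻¹ by group, e, hv2,
        show s * (y * x⁻¹) * s⁻¹ = (s * y * s⁻¹) * (s * x * s⁻¹)⁻¹ by group, hsy, hs.eq,
        mul_inv_cancel_right, mul_inv_cancel_right]
  -- the inverter
  obtain ⟨k, hkx, hk⟩ := (hcls y⁻¹ hyx.inv_left (by rw [inv_pow, hy3, inv_one])).resolve_left
    (fun h1 => hdx (inv_mem_iff.mp h1))
  set v := d⁻¹ * k * d with hv
  have hvx : v * x * v⁻¹ = x⁻¹ := by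
    rw [hv, show d⁻¹ * k * d * x * (d⁻¹ * k * d)⁻¹ = d⁻¹ * (k * y * k⁻¹) * d by rw [hy]; group,
      show k * y * k⁻¹ = (k * y⁻¹ * k⁻¹)⁻¹ by group, hk, hy]
    group
  have hvy : Commute (v * y * v⁻¹) x := by
    have h1 := hyx.inv_right.map (MulAut.conj v)
    rw [MulAut.conj_apply, MulAut.conj_apply, show v * x⁻¹ * v⁻¹ = (v * x * v⁻¹)⁻¹ by group, hvx,
      inv_inv] at h1
    exact h1
  obtain ⟨k2, hk2x, hk2⟩ := (hcls _ hvy (by rw [conj_pow, hy3, mul_one, mul_inv_cancel])).resolve_left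
    (fun h1 => hdx (by
      obtain ⟨i, hi⟩ := h1
      refine ⟨-i, ?_⟩
      change x ^ (-i) = y
      have hinv : v⁻¹ * x * v = x⁻¹ := by
        have h2 : v⁻¹ * (v * x * v⁻¹)⁻¹ * v = x⁻¹ := by group
        rwa [hvx, inv_inv] at h2
      have e2 := conj_zpow (a := v⁻¹) (b := x) (i := i)
      rw [inv_inv, hinv] at e2
      rw [zpow_neg, ← inv_zpow, e2, show x ^ i = v * y * v⁻¹ from hi]
      group))
  refine ⟨k2 * v, s, ?_, ?_, ?_, hs, hsy, hcls⟩
  · rw [show k2 * v * x * (k2 * v)⁻¹ = k2 * (v * x * v⁻¹) * k2⁻¹ by group, hvx,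
      hk2x.inv_right.eq, mul_inv_cancel_right]
  · rw [commute_iff_eq, ← mul_inv_eq_iff_eq_mul]
    conv_rhs => rw [← hk2]
    group
  · set u := k2 * v
    have hux : u * x * u⁻¹ = x⁻¹ := by
      rw [show k2 * v * x * (k2 * v)⁻¹ = k2 * (v * x * v⁻¹) * k2⁻¹ by group, hvx,
        hk2x.inv_right.eq, mul_inv_cancel_right]
    have huK : ∀ q : G, q ∈ Cn x → u * q * u⁻¹ ∈ Cn x := fun q hq => by
      have := conj_mem_cn (d := u) hq
      rwa [hux, cn_inv] at this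
    have h1 : u * z * u⁻¹ = z := by
      refine (K.central (huK z (mem_cn.mpr K.zx)) (fun q hq => ?_)
        (by rw [conj_mul, K.zz, mul_one, mul_inv_cancel])).elim (fun e => ?_) id
      · have hq' : u⁻¹ * q * u ∈ Cn x := by
          have := conj_mem_cn (d := u⁻¹) hq
          rw [inv_inv] at this
          have hinv : u⁻¹ * x * u = x⁻¹ := by
            have h2 : u⁻¹ * (u * x * u⁻¹)⁻¹ * u = x⁻¹ := by group
            rwa [hux, inv_inv] at h2
          rwa [hinv, cn_inv] at this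
        have := (K.zc _ hq').map (MulAut.conj u)
        simpa [mul_assoc] using this
      · rw [e, (conj_eq_one_iff.mp e)]
    exact mul_inv_eq_iff_eq_mul.mp h1

end Cfsg.Agent.Lib.J4Six41
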